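import Cfsg.Agent.H306.HT.Tra
import Cfsg.Agent.H50.HerFam

/-!
# Own characteristic: the families (helper306, for S3512)

`DV L` : `L ≤ GL(V)` irreducible, `L / Z(L)` simple, `|Z(L)|` prime to `p`, every vector fixed by a Sylow `p`-subgroup of `L`.

`DV.tra` : `L / Z(L)` of Lie type in characteristic `p`: `L` is transitive on the nonzero vectors.
-/

set_option autoImplicit false
set_option linter.unusedSectionVars false
set_option linter.style.haveILetI false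

namespace Cfsg.Agent.H306.HT

open Cfsg Module
open Cfsg.Agent.H50.Her
open Cfsg.Agent.ChevalleyStructure.CoxeterGeom Cfsg.Agent.Nodes.Reps
open Cfsg.Agent.Tits.Core Cfsg.Agent.Tits.Core.Bldg Cfsg.Agent.Tits.Exchange Cfsg.Agent.Tits
open Cfsg.Agent.FixBN Cfsg.Agent.FixBN.Cox Cfsg.Agent.LieRecognition.BNCox Cfsg.Agent.Nodes.RGDChev
open Cfsg.Agent.Omega.CR Cfsg.Agent.Omega.CR.Bl Cfsg.Agent.H905.DC

universe u v

variable {p : ℕ} [hp : Fact p.Prime] {V : Type u} [AddCommGroup V] [Module (ZMod p) V] [Finite V] [Nontrivial V]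

/-- The setting of the own characteristic. -/
structure DV (L : Subgroup (V ≃ₗ[ZMod p] V)) : Prop where
  irr : ∀ W : Submodule (ZMod p) V, (∀ g ∈ L, ∀ x ∈ W, g x ∈ W) → W = ⊥ ∨ W = ⊤
  simple : IsSimpleGroup (L ⧸ Subgroup.center L)
  cop : (Nat.card (Subgroup.center L)).Coprime p
  cov : ∀ v : V, ∃ Q : Subgroup L, IsPGroup p Q ∧
    (∀ Q' : Subgroup L, IsPGroup p Q' → Nat.card Q' ≤ Nat.card Q) ∧ ∀ g ∈ Q, g.1 v = v

variable {L : Subgroup (V ≃ₗ[ZMod p] V)}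

theorem DV.irr' (h : DV L) : ∀ W : Submodule (ZMod p) V, Ivt (rep L) ⊤ W → W = ⊥ ∨ W = ⊤ := by
  intro W hW
  refine h.irr W fun g hg x hx => ?_
  exact hW ⟨g, hg⟩ trivial x hx

section bldg

variable {I : Type*} {M : CoxeterMatrix I} {W : Type*} [Group W] {cs : CoxeterSystem M W} [F : OppRes.Cox cs]
  {C : Type*} {Δ : Bldg cs C} [MulAction L C] {S : Sys Δ L p} [Fintype C]

theorem DV.hcov (h : DV L) (v : V) : ∃ x, v ∈ Vx S (rep L) x := by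
  obtain ⟨Q, hQ, hmax, hfix⟩ := h.cov v
  obtain ⟨x, hx⟩ := S.exists_fix Q hQ
  refine ⟨x, ?_⟩
  have h1 : Q ≤ S.U x := S.max x Q hQ hx
  have h2 : Q = S.U x := Subgroup.eq_of_le_of_card_ge h1 (hmax _ (S.isP x))
  rw [mem_Vx]
  intro u hu
  rw [← h2] at hu
  exact hfix u hu

theorem DV.tra_sys (h : DV L) [Nonempty I] (hth : Δ.Thick) (S : Sys Δ L p) {v w : V} (hv : v ≠ 0) (hw : w ≠ 0) :
    ∃ g ∈ L, g v = w := by
  obtain ⟨x₀, -⟩ := h.hcov (S := S) 0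
  obtain ⟨a, lab, hL⟩ := exists_lab (S := S) hth h.irr' h.hcov x₀
  have hJ := Jset_ne_univ (S := S) hth h.irr' rep_injective x₀
  obtain ⟨i, hi⟩ : ∃ i, i ∉ Jset S (rep L) := by
    by_contra hcon
    push Not at hcon
    exact hJ (Set.eq_univ_of_forall hcon)
  have hi1 := isMinR_simple (cs := cs) hi
  have hi2 : cs.simple i ∉ WJ cs (Jset S (rep L)) := by
    intro hmem
    exact hi (mem_of_simple_mem hmem)
  obtain ⟨g, hg⟩ := tra_abs (S := S) hth h.irr' h.hcov hL ⟨i, hi2, hi1⟩ hv hw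
  exact ⟨g.1, g.2, hg⟩

end bldg

theorem DV.tra_sysT (h : DV L) {I : Type*} [Finite I] [Nonempty I] {M : CoxeterMatrix I} (hS : HasSysT p M L) {v w : V}
    (hv : v ≠ 0) (hw : w ≠ 0) : ∃ g ∈ L, g v = w := by
  obtain ⟨W, C, i1, cs, i2, i3, Δ, i4, hth, ⟨S⟩⟩ := hS
  exact h.tra_sys hth S hv hw

theorem DV.sysT (h : DV L) {l : ℕ} (hl : 0 < l) {M : CoxeterMatrix (Fin l)} {S' : Type v} [Group S']
    (hP : Cfsg.Agent.Omega.ML.Ex.Typ.HasRGDT p M S') (e : L ⧸ Subgroup.center L ≃* S') : HasSysT p M L := by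
  have := h.simple
  exact Cfsg.Agent.H797.HerSys.hasSysT_of_rgdT hp.out hl (hP.of_equiv e.symm) (QuotientGroup.mk' (Subgroup.center L))
    (QuotientGroup.ker_mk' _) (by rw [QuotientGroup.ker_mk']; exact h.cop) (QuotientGroup.mk'_surjective _)

theorem DV.tra_rgd (h : DV L) {l : ℕ} (hl : 0 < l) {M : CoxeterMatrix (Fin l)} {S' : Type v} [Group S']
    (hP : Cfsg.Agent.Omega.ML.Ex.Typ.HasRGDT p M S') (e : L ⧸ Subgroup.center L ≃* S') {v w : V}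
    (hv : v ≠ 0) (hw : w ≠ 0) : ∃ g ∈ L, g v = w := by
  have : Nonempty (Fin l) := ⟨⟨0, hl⟩⟩
  exact h.tra_sysT (h.sysT hl hP e) hv hw

/-- **Own characteristic**: `L` is transitive on the nonzero vectors. -/
theorem DV.tra (h : DV L) (hS : IsLieTypeChar p (L ⧸ Subgroup.center L)) {v w : V} (hv : v ≠ 0) (hw : w ≠ 0) :
    ∃ g ∈ L, g v = w := by
  rcases hS with hS | hS | hS | hS | hS | hS | hS | hS | hS | hS | hS
  · obtain ⟨K, _, _, _, n, hn, hn2, ⟨e⟩⟩ := hS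
    obtain ⟨m, rfl⟩ : ∃ m, n = m + 1 := ⟨n - 1, by omega⟩
    exact h.tra_rgd (by omega) (Cfsg.Agent.H804.PanPSL.pan_psl (F := K) m (p := p)).hasRGDT e hv hw
  · obtain ⟨K, _, _, _, m, hm, hm2, ⟨e⟩⟩ := hS
    exact h.tra_rgd (by omega) (Cfsg.Agent.H742.pan_psp (F := K) (m := m) (by omega)).hasRGDT e hv hw
  · obtain ⟨K, _, _, _, n, q, hK, hn, -, ⟨e⟩⟩ := hS
    obtain ⟨m, hm⟩ : ∃ m, n = 2 * m ∨ n = 2 * m + 1 := ⟨n / 2, by omega⟩
    rcases hm with rfl | rfl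
    · exact h.tra_rgd (by omega) (Cfsg.Agent.H742.pan_psu_even hK (by omega)).hasRGDT e hv hw
    · exact h.tra_rgd (by omega) (Cfsg.Agent.H742.pan_psu_odd (m := m) (p := p) hK (by omega)).hasRGDT e hv hw
  · obtain ⟨K, _, _, _, m, hm, ho, ⟨e⟩⟩ := hS
    have hp2 : p ≠ 2 := by
      rintro rfl
      obtain ⟨k, hk, hc⟩ := FiniteField.card K 2
      rw [hc] at ho
      exact (Nat.not_even_iff_odd.2 ho) ((Nat.even_pow.2 ⟨even_two, k.2.ne'⟩))
    exact h.tra_rgd (by omega) (Cfsg.Agent.H353.PanO.pan_po_odd hm hp2).hasRGDT e hv hw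
  · obtain ⟨K, _, _, _, m, hm, ⟨e⟩⟩ := hS
    obtain ⟨n, rfl⟩ : ∃ n, m = n + 3 := ⟨m - 3, by omega⟩
    exact h.tra_rgd (by omega) (Cfsg.Agent.Omega.ML.Ex.Typ.typ_PO_plus n) e hv hw
  · obtain ⟨K, _, _, _, m, a, b, hm, hab, ⟨e⟩⟩ := hS
    exact h.tra_rgd (by omega) (Cfsg.Agent.H353.PanO.pan_po_minus hab (by omega)).hasRGDT e hv hw
  · obtain ⟨K, _, _, _, hS⟩ := hS
    rcases hS with ⟨hK, ⟨e⟩⟩ | ⟨⟨e⟩⟩ | ⟨⟨e⟩⟩ | ⟨⟨e⟩⟩ | ⟨⟨e⟩⟩
    · exact h.tra_rgd (by omega) (Cfsg.Agent.H793.pan_g2 K p).hasRGDT e hv hw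
    · exact h.tra_rgd (l := 4) (M := CoxeterMatrix.F₄) (by norm_num)
        (Cfsg.Agent.Omega.ML.Ex.Typ.typ_group (by simp [IsType, typeList]) K p) e hv hw
    · exact h.tra_rgd (l := 6) (M := CoxeterMatrix.E₆) (by norm_num)
        (Cfsg.Agent.Omega.ML.Ex.Typ.typ_group (by simp [IsType, typeList]) K p) e hv hw
    · exact h.tra_rgd (l := 7) (M := CoxeterMatrix.E₇) (by norm_num)
        (Cfsg.Agent.Omega.ML.Ex.Typ.typ_group (by simp [IsType, typeList]) K p) e hv hw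
    · exact h.tra_rgd (l := 8) (M := CoxeterMatrix.E₈) (by norm_num)
        (Cfsg.Agent.Omega.ML.Ex.Typ.typ_group (by simp [IsType, typeList]) K p) e hv hw
  · obtain ⟨K, _, _, _, q, hq, ⟨hK, ⟨e⟩⟩ | ⟨hK, ⟨e⟩⟩⟩ := hS
    · exact h.tra_rgd (by omega) (Cfsg.Agent.Omega.ML.Ex.Typ.typ_twE6 hq hK p) e hv hw
    · exact h.tra_rgd (by omega) (Cfsg.Agent.H793.pan_twD4 hq hK p).hasRGDT e hv hw
  · obtain ⟨hp2, hS⟩ := hS
    subst hp2
    obtain ⟨h1, -⟩ := Cfsg.Agent.H892.HerSz.sys_sz hS (QuotientGroup.mk' (Subgroup.center L))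
      (QuotientGroup.ker_mk' _) (by rw [QuotientGroup.ker_mk']; exact h.cop) (QuotientGroup.mk'_surjective _)
    exact h.tra_sysT h1 hv hw
  · obtain ⟨hp2, hS⟩ := hS
    subst hp2
    obtain ⟨M, hM, h1, -⟩ := Cfsg.Agent.H60.HerTwF4.sys_twF4 hS (QuotientGroup.mk' (Subgroup.center L))
      (QuotientGroup.ker_mk' _) (by rw [QuotientGroup.ker_mk']; exact h.cop) (QuotientGroup.mk'_surjective _)
    exact h.tra_sysT h1 hv hw
  · obtain ⟨hp3, hS⟩ := hS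
    subst hp3
    obtain ⟨h1, -⟩ := Cfsg.Agent.H892.HerSz.sys_ree hS (QuotientGroup.mk' (Subgroup.center L))
      (QuotientGroup.ker_mk' _) (by rw [QuotientGroup.ker_mk']; exact h.cop) (QuotientGroup.mk'_surjective _)
    exact h.tra_sysT h1 hv hw

end Cfsg.Agent.H306.HT
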