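import Cfsg.Agent.H306.HT.Own
import Cfsg.Agent.H19.HT.Asm

/-!
# S3512, RowP: own characteristic (helper306)

`own` : `QSP p K V G L h`, `L / Z(L)` of Lie type in characteristic `p`: `L` (so `G`) is transitive on the nonzero vectors.
-/

set_option autoImplicit false
set_option linter.unusedSectionVars false
set_option linter.style.haveILetI false

namespace Cfsg.Agent.H306.HT

open Cfsg.Agent.H828.HT Cfsg.Agent.H960.HT Cfsg.Agent.H19.HT

universe u w

section

variable {p : ℕ} [hp : Fact p.Prime] {V : Type u} [AddCommGroup V] [Module (ZMod p) V] [Finite V]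
  {L : Subgroup (V ≃ₗ[ZMod p] V)}

theorem orb_mul_stab (v : V) :
    Nat.card (MulAction.orbit L v) * Nat.card (MulAction.stabilizer L v) = Nat.card L := by
  classical
  have : Finite (V ≃ₗ[ZMod p] V) := DFunLike.finite _
  have := Fintype.ofFinite L
  have h2 := MulAction.card_orbit_mul_card_stabilizer_eq_card_group L v
  rwa [← Nat.card_eq_fintype_card, ← Nat.card_eq_fintype_card, ← Nat.card_eq_fintype_card] at h2

/-- `p`-exceptional groups: every vector is fixed by a Sylow `p`-subgroup -/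
theorem cov_of_pex (hP : PEx L) (v : V) : ∃ Q : Subgroup L, IsPGroup p Q ∧
    (∀ Q' : Subgroup L, IsPGroup p Q' → Nat.card Q' ≤ Nat.card Q) ∧ ∀ g ∈ Q, g.1 v = v := by
  have hfin : Finite (V ≃ₗ[ZMod p] V) := DFunLike.finite _
  by_cases hv : v = 0
  · obtain ⟨Q⟩ : Nonempty (Sylow p L) := inferInstance
    refine ⟨Q, Q.isPGroup', fun Q' hQ' => ?_, fun g _ => by rw [hv, map_zero]⟩
    obtain ⟨Q'', hQ''⟩ := hQ'.exists_le_sylow
    rw [Nat.card_congr (Sylow.equiv Q Q'').toEquiv]
    exact Subgroup.card_le_of_le hQ''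
  obtain ⟨Q⟩ : Nonempty (Sylow p (MulAction.stabilizer L v)) := inferInstance
  have hcard := orb_mul_stab (L := L) v
  refine ⟨(Q : Subgroup (MulAction.stabilizer L v)).map (MulAction.stabilizer L v).subtype, Q.isPGroup'.map _,
    fun Q' hQ' => ?_, ?_⟩
  · rw [Subgroup.card_map_of_injective (MulAction.stabilizer L v).subtype_injective, Sylow.card_eq_multiplicity]
    obtain ⟨k', hk'⟩ := IsPGroup.iff_card.1 hQ'
    have h4 : p ^ k' ∣ Nat.card L := hk' ▸ Subgroup.card_subgroup_dvd_card Q'
    rw [← hcard] at h4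
    have h5 : p ^ k' ∣ Nat.card (MulAction.stabilizer L v) :=
      (Nat.Coprime.pow_left k' ((Nat.Prime.coprime_iff_not_dvd hp.out).2 (hP v hv))).dvd_of_dvd_mul_left h4
    rw [hk']
    exact Nat.pow_le_pow_right hp.out.pos ((hp.out.pow_dvd_iff_le_factorization Nat.card_pos.ne').1 h5)
  · rintro _ ⟨g, -, rfl⟩
    exact g.2

/-- a central `p`-element of an irreducible group is trivial -/
theorem center_coprime [Nontrivial V] (hirr : Irr L) : (Nat.card (Subgroup.center L)).Coprime p := by
  have hfin : Finite (V ≃ₗ[ZMod p] V) := DFunLike.finite _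
  rw [Nat.coprime_comm, Nat.Prime.coprime_iff_not_dvd hp.out]
  intro hd
  obtain ⟨z, hz⟩ := exists_prime_orderOf_dvd_card' p hd
  have hc : ∀ g : L, g * z.1 = z.1 * g := Subgroup.mem_center_iff.1 z.2
  have hzp : z.1.1 ^ p = 1 := by
    have h1 : z ^ p = 1 := orderOf_dvd_iff_pow_eq_one.1 hz.dvd
    have h2 := congrArg (fun x : Subgroup.center L => (x.1.1 : V ≃ₗ[ZMod p] V)) h1
    simpa using h2
  -- `z` has a nonzero fixed vector
  obtain ⟨v, hv0, hv⟩ : ∃ v : V, v ≠ 0 ∧ z.1.1 v = v := by
    by_contra hcon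
    push Not at hcon
    have hinj : Function.Injective ((z.1.1 : V ≃ₗ[ZMod p] V) - (LinearMap.id : V →ₗ[ZMod p] V) : V →ₗ[ZMod p] V) := by
      rw [injective_iff_map_eq_zero]
      intro v hv
      by_contra h0
      exact hcon v h0 (sub_eq_zero.1 hv)
    have hchar : CharP (Module.End (ZMod p) V) p := by
      have := charP_of_injective_algebraMap (algebraMap (ZMod p) (Module.End (ZMod p) V)).injective p
      exact this
    have h3 : ((z.1.1 : V →ₗ[ZMod p] V) - (1 : Module.End (ZMod p) V)) ^ p = 0 := by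
      have hcm : Commute (z.1.1 : Module.End (ZMod p) V) 1 := Commute.one_right _
      rw [sub_pow_char_of_commute p hcm, one_pow, sub_eq_zero]
      refine LinearMap.ext fun v => ?_
      have h4 : ∀ n : ℕ, ((z.1.1 : Module.End (ZMod p) V) ^ n) v = (z.1.1 ^ n) v := by
        intro n
        induction n with
        | zero => rfl
        | succ n ih =>
          rw [pow_succ', pow_succ', Module.End.mul_apply, ih]
          rfl
      rw [h4, hzp]
      rfl
    obtain ⟨v, hv⟩ := exists_ne (0 : V)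
    have h5 : Function.Injective (((z.1.1 : V →ₗ[ZMod p] V) - (1 : Module.End (ZMod p) V)) ^ p : Module.End (ZMod p) V) := by
      rw [Module.End.coe_pow]
      exact hinj.iterate p
    rw [h3] at h5
    exact hv (h5 (by simp))
  rcases hirr (fx z.1.1) (by
    intro g hg w hw
    rw [mem_fx] at hw ⊢
    have h1 : ((z.1 * ⟨g, hg⟩ : L) : V ≃ₗ[ZMod p] V) w = ((⟨g, hg⟩ * z.1 : L) : V ≃ₗ[ZMod p] V) w := by
      rw [hc ⟨g, hg⟩]
    change z.1.1 (g w) = g (z.1.1 w) at h1
    rw [h1, hw]) with h | h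
  · have h1 : v ∈ fx z.1.1 := mem_fx.2 hv
    rw [h] at h1
    exact hv0 ((Submodule.mem_bot _).1 h1)
  · have h1 : z = 1 := by
      apply Subtype.ext
      apply Subtype.ext
      ext w
      have : w ∈ fx z.1.1 := by rw [h]; trivial
      exact mem_fx.1 this
    rw [h1, orderOf_one] at hz
    exact hp.out.one_lt.ne hz

end

/-- **RowP, own characteristic** -/
theorem own {p : ℕ} [hp : Fact p.Prime] {K : Type w} [Field K] {V : Type u} [AddCommGroup V] [Module (ZMod p) V]
    [Finite V] [Module K V] {G L : Subgroup (V ≃ₗ[ZMod p] V)} {h : ℕ} (H : QSP p K V G L h)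
    (hS : Cfsg.IsLieTypeChar p (L ⧸ Subgroup.center L)) : Tra G := by
  have hne : ∃ v : V, v ≠ 0 := by
    obtain ⟨a, -, b, -, hab⟩ := H.nonab
    by_contra hcon
    push Not at hcon
    exact hab (LinearEquiv.ext fun v => by rw [hcon ((a * b) v), hcon ((b * a) v)])
  obtain ⟨v₀, hv₀⟩ := hne
  haveI : Nontrivial V := ⟨⟨v₀, 0, hv₀⟩⟩
  have hirr : Irr L := H.irr
  have hP : PEx L := pex_of_normal H.half H.le H.nrm
  have hD : DV L := ⟨fun W hW => hirr W hW, H.simple, center_coprime hirr, cov_of_pex hP⟩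
  intro v w hv hw
  obtain ⟨g, hg, e⟩ := hD.tra hS hv hw
  exact ⟨g, H.le hg, e⟩

end Cfsg.Agent.H306.HT
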