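import Cfsg.Agent.H50.HerCore

/-!
# Own characteristic: transitivity on the nonzero vectors (helper306, for S3512)

`L ≤ GL(V)` irreducible, acting on a thick building with a system of Sylow `p`-subgroups `U x`, every vector fixed by a Sylow
`p`-subgroup.  For two adjacent chambers `x`, `y` with `V_x ≠ V_y` (`V_x = C_V(U x)`) the map `u ↦ u v - v` from `U x` to `V_x`
is onto for every `v ∈ V_y`, `v ≠ 0`: the nonzero vectors of `V_x` and `V_y` are in one orbit.  So `L` is transitive on the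
nonzero vectors.
-/

set_option autoImplicit false
set_option linter.unusedSectionVars false
set_option linter.style.haveILetI false

namespace Cfsg.Agent.H306.HT

open Module
open Cfsg.Agent.H50.Her
open Cfsg.Agent.ChevalleyStructure.CoxeterGeom Cfsg.Agent.Nodes.Reps
open Cfsg.Agent.Tits.Core Cfsg.Agent.Tits.Core.Bldg Cfsg.Agent.Tits.Exchange Cfsg.Agent.Tits
open Cfsg.Agent.FixBN Cfsg.Agent.FixBN.Cox Cfsg.Agent.Omega.CR Cfsg.Agent.Omega.CR.Bl Cfsg.Agent.H905.DC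

universe u v

section abs

variable {I : Type*} {M : CoxeterMatrix I} {W : Type*} [Group W] {cs : CoxeterSystem M W} {C : Type*}
  {Δ : Bldg cs C}
variable {G : Type*} [Group G] [MulAction G C] {p : ℕ} {S : Sys Δ G p} [F : OppRes.Cox cs]
variable {V : Type*} [AddCommGroup V] [Module (ZMod p) V] {ρ : G →* Module.End (ZMod p) V}
variable [Fintype C] [Fact p.Prime] (hth : Δ.Thick) [Finite G] [Finite V] [Nontrivial V]
  (hirr : ∀ L : Submodule (ZMod p) V, Ivt ρ ⊤ L → L = ⊥ ∨ L = ⊤) (hcov : ∀ v : V, ∃ x, v ∈ Vx S ρ x)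
  {a : ℕ} {lab : W → ℕ} {P : ℕ} (hL : Lab S ρ a lab P)

include hth hirr hcov hL

/-- `k ∉ J`: the label of `s_k` is one -/
theorem lab_one {k : I} (hk : IsMinR cs (Jset S ρ) (cs.simple k)) (hkJ : cs.simple k ∉ WJ cs (Jset S ρ)) (x : C) :
    lab (cs.simple k) = 1 := by
  have h1 := card_panel (S := S) hth hirr hcov hL (k := k) ⟨1, by rwa [inv_one, one_mul, mul_one]⟩ x
  have h2 := hL.sph _ hk x
  rw [h1] at h2
  have h3 : P ^ lab (cs.simple k) = P ^ 1 := by rw [← h2, pow_one]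
  exact Nat.pow_right_injective hL.two_le h3

/-- the vectors of adjacent blocks -/
theorem adj_orbit {k : I} (hk : IsMinR cs (Jset S ρ) (cs.simple k)) (hkJ : cs.simple k ∉ WJ cs (Jset S ρ)) {x y : C}
    (hxy : Δ.δ x y = cs.simple k) {b v : V} (hb : b ∈ Vx S ρ x) (hv : v ∈ Vx S ρ y) (hv0 : v ≠ 0) :
    ∃ u ∈ S.U x, ρ u v = b + v := by
  classical
  have hl := lab_one (S := S) hth hirr hcov hL hk hkJ x
  obtain ⟨hφ, hinf⟩ := adj_data (S := S) hth hirr hcov hL hxy hk hl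
  -- the chambers opposite to `x` in the panel
  have hsurj : ∀ z : {z : C // Δ.δ x z = cs.simple k}, ∃ u : S.U x, (u : G) • y = z.1 := by
    rintro ⟨z, hz⟩
    obtain ⟨u, hu, e⟩ := S.exists_move (x := x) (hxy.trans hz.symm)
    exact ⟨⟨u, hu⟩, e⟩
  choose f hf using hsurj
  let Φ : {z : C // Δ.δ x z = cs.simple k} → Vx S ρ x := fun z => ⟨ρ (f z : G) v - v, hφ _ (f z).2 v hv⟩
  have hΦ : Function.Injective Φ := by
    intro z z' h
    have h1 : ρ (f z : G) v = ρ (f z' : G) v := by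
      have h2 : ρ (f z : G) v - v = ρ (f z' : G) v - v := congrArg Subtype.val h
      exact sub_left_injective h2
    by_contra hne
    have hne' : z.1 ≠ z'.1 := fun h => hne (Subtype.ext h)
    have h2 : ρ (f z : G) v ∈ Vx S ρ z.1 := by
      have := rho_mem_Vx S ρ (f z : G) hv
      rwa [hf z] at this
    have h3 : ρ (f z : G) v ∈ Vx S ρ z'.1 := by
      rw [h1]
      have := rho_mem_Vx S ρ (f z' : G) hv
      rwa [hf z'] at this
    have h4 : ρ (f z : G) v ≠ 0 := by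
      intro h0
      apply hv0
      apply (rhoEquiv ρ (f z : G)).injective
      rw [map_zero]
      exact h0
    have h5 : Δ.δ z.1 z'.1 = cs.simple k :=
      Δ.δ_eq_of_mem_Pan (x := x) (Δ.mem_Pan_of_δ z.2) (Δ.mem_Pan_of_δ z'.2) hne'
    apply hkJ
    rw [← h5]
    exact (Vx_eq_iff_mem (S := S) hth hirr _ _).1 (Vx_eq_of_mem (S := S) hth hirr h2 h3 h4)
  have hcard : Nat.card {z : C // Δ.δ x z = cs.simple k} = Nat.card (Vx S ρ x) := by
    rw [card_panel (S := S) hth hirr hcov hL (k := k) ⟨1, by rwa [inv_one, one_mul, mul_one]⟩ x, hL.card_Vx]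
  have hbij : Function.Bijective Φ := (Nat.bijective_iff_injective_and_card Φ).2 ⟨hΦ, hcard⟩
  obtain ⟨z, hz⟩ := hbij.2 ⟨b, hb⟩
  refine ⟨f z, (f z).2, ?_⟩
  have h1 : ρ (f z : G) v - v = b := congrArg Subtype.val hz
  rw [← h1, sub_add_cancel]

/-- **Transitivity on the nonzero vectors.** -/
theorem tra_abs (hJ : ∃ k, cs.simple k ∉ WJ cs (Jset S ρ) ∧ IsMinR cs (Jset S ρ) (cs.simple k)) {v w : V}
    (hv0 : v ≠ 0) (hw0 : w ≠ 0) : ∃ g : G, ρ g v = w := by
  obtain ⟨k, hkJ, hk⟩ := hJ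
  obtain ⟨x, hx⟩ := hcov v
  obtain ⟨x', hx'⟩ := hcov w
  -- all the blocks are conjugate
  obtain ⟨g, hg, -⟩ := exists_smul_pair (S := S) hth (x := x') (y := x') (x' := x) (y' := x)
    (by rw [Δ.δ_self, Δ.δ_self])
  have hw' : ρ g w ∈ Vx S ρ x := by
    have := rho_mem_Vx S ρ g hx'
    rwa [hg] at this
  have hw'0 : ρ g w ≠ 0 := by
    intro h0
    apply hw0
    apply (rhoEquiv ρ g).injective
    rw [map_zero]
    exact h0
  obtain ⟨y, hxy⟩ := Δ.exists_δ x (cs.simple k)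
  obtain ⟨m, hm, hm0⟩ := (Submodule.ne_bot_iff _).1 (Vx_ne_bot' (S := S) (ρ := ρ) y)
  have hyx := Δ.δ_symm_simple hxy
  -- `m → b + m ← b`
  have key : ∀ b ∈ Vx S ρ x, b ≠ 0 → ∃ h : G, ρ h m = b := by
    intro b hb hb0
    obtain ⟨u, -, hu⟩ := adj_orbit (S := S) hth hirr hcov hL hk hkJ hxy hb hm hm0
    obtain ⟨u', -, hu'⟩ := adj_orbit (S := S) hth hirr hcov hL hk hkJ hyx hm hb hb0
    refine ⟨u'⁻¹ * u, ?_⟩
    rw [rho_mul, hu, add_comm, ← hu', ← rho_mul, inv_mul_cancel, map_one]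
    rfl
  obtain ⟨h1, e1⟩ := key v hx hv0
  obtain ⟨h2, e2⟩ := key _ hw' hw'0
  refine ⟨g⁻¹ * (h2 * h1⁻¹), ?_⟩
  have e3 : ρ h1⁻¹ v = m := by
    rw [← e1, ← rho_mul, inv_mul_cancel, map_one]
    rfl
  rw [rho_mul, rho_mul, e3, e2, ← rho_mul, inv_mul_cancel, map_one]
  rfl

end abs

end Cfsg.Agent.H306.HT
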